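import Cfsg.Agent.H832.Cyc.Psp
import Cfsg.Agent.H813.SpC.AbOmega

/-!
# S4791, S4927 : `cyc_omegaOdd` (helper832)

* `so_inner` : isometries of determinant one act on the Sylow `p`-subgroups of `POmega F Q` as inner automorphisms
  (`Core p Q`, helper813);
* `exists_so` : in odd dimension every similarity is a scalar times an isometry of determinant one.
-/

set_option autoImplicit false
set_option linter.unusedSectionVars false

open Subgroup

namespace Cfsg.Agent.H832.Cyc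

open Matrix QuadraticMap
open Cfsg.Agent.H443.XC
open Cfsg.Agent.LieClassical.OrthCore Cfsg.Agent.LieClassical.OrthTrans Cfsg.Agent.ClassicalGeometry.OrthSemi
open Cfsg.Agent.H198.OrthFrame Cfsg.Agent.H205.Gen Cfsg.Agent.H160.QSpin Cfsg.Agent.H160.QFinal
open Cfsg.Agent.H198.ClassesPlus (mu mu_spec mu_unique mu_eq_one_iff dt dt_apply)
open Cfsg.Agent.H989.OutOrth.Basic (sg sg_eq)
open Cfsg.Agent.H63.AO (Core CoreAll lin_apply')

universe u

variable {ι : Type} [Fintype ι] [DecidableEq ι] {F : Type u} [Field F] {Q : QuadraticForm F (ι → F)} [Finite F]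

theorem so_inner {p : ℕ} [hp : Fact p.Prime] (h2 : (2 : F) ≠ 0) (hG : Good Q)
    (hd : 5 ≤ Fintype.card ι) (hcore : Core p Q) {y : Sim Q} (hy : y.1 ∈ isometryGroup F ⇑Q) (hdt : dt y = 1)
    (P : Sylow p (POmega F ⇑Q)) :
    ∃ s : POmega F ⇑Q, ∀ x ∈ (P : Subgroup (POmega F ⇑Q)), S hG y x = s * x * s⁻¹ := by
  classical
  -- the linear map
  obtain ⟨xL, hxO, hxy, hxd⟩ := Cfsg.Agent.H198.ClassesPlus.exists_O_of_iso y hy
  rw [hdt] at hxd
  have hxv : ∀ v, xL v = (simGam Q y).1 v := fun v => by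
    rw [← hxy]; rfl
  -- the lift
  have hfin : Finite (Omega F ⇑Q) := inferInstance
  obtain ⟨T, hT⟩ := Sylow.mapSurjective_surjective (QuotientGroup.mk'_surjective (center (Omega F ⇑Q))) p P
  have hTP : ∀ x ∈ (P : Subgroup (POmega F ⇑Q)), ∃ u ∈ (T : Subgroup (Omega F ⇑Q)),
      (QuotientGroup.mk u : POmega F ⇑Q) = x := by
    intro x hx
    rw [← hT] at hx
    exact hx
  let P' : Subgroup ((ι → F) ≃ₗ[F] (ι → F)) := (T : Subgroup (Omega F ⇑Q)).map (lin Q)
  have hP'O : P' ≤ O Q := by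
    rintro _ ⟨u, -, rfl⟩
    exact (el_lin h2 hG.nondeg hd u).1
  have hP'p : IsPGroup p P' := T.2.map _
  -- it is enough to find `ω` with `lin ω = xL z`, `z` commuting with `P'`
  have key : ∀ (ω : Omega F ⇑Q) (z : (ι → F) ≃ₗ[F] (ι → F)), lin Q ω = xL * z → (∀ g ∈ P', z * g = g * z) →
      ∀ x ∈ (P : Subgroup (POmega F ⇑Q)), S hG y x =
        (QuotientGroup.mk ω : POmega F ⇑Q) * x * (QuotientGroup.mk ω : POmega F ⇑Q)⁻¹ := by
    intro ω z hω hz x hx
    obtain ⟨u, hu, rfl⟩ := hTP x hx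
    rw [← QuotientGroup.mk_inv, ← QuotientGroup.mk_mul, ← QuotientGroup.mk_mul]
    apply Phi_mk
    intro v
    rw [← lin_apply', ← hxv, ← hxv, ← lin_apply', map_mul, map_mul, map_inv, hω]
    have h3 := hz (lin Q u) ⟨u, hu, rfl⟩
    have h4 : xL * z * lin Q u * (xL * z)⁻¹ * xL = xL * lin Q u := by
      calc xL * z * lin Q u * (xL * z)⁻¹ * xL = xL * (z * lin Q u) * z⁻¹ := by group
        _ = xL * (lin Q u * z) * z⁻¹ := by rw [h3]
        _ = xL * lin Q u := by group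
    exact LinearEquiv.congr_fun h4 v
  rcases Int.units_eq_one_or (spin Q ⟨xL, hxO⟩) with hs | hs
  · obtain ⟨ω, hω⟩ := exists_lin h2 hG.nondeg hd (g := xL) ⟨hxO, hxd, hs⟩
    exact ⟨_, key ω 1 (by rw [hω, mul_one]) fun g _ => by rw [one_mul, mul_one]⟩
  · by_cases hP1 : P' = ⊥
    · refine ⟨1, fun x hx => ?_⟩
      obtain ⟨u, hu, rfl⟩ := hTP x hx
      have h3 : lin Q u ∈ P' := ⟨u, hu, rfl⟩
      rw [hP1, mem_bot] at h3
      have h4 : u = 1 := lin_injective Q (by rw [h3, map_one])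
      rw [h4, QuotientGroup.mk_one, map_one, one_mul, one_mul, inv_one]
    · obtain ⟨z, hz, hzc⟩ := hcore P' hP'O hP'p hP1
      have h3 : El Q (-1 * -1) (xL * z) := El.mul ⟨hxO, hxd, hs⟩ hz
      obtain ⟨ω, hω⟩ := exists_lin h2 hG.nondeg hd (g := xL * z) (by simpa using h3)
      exact ⟨_, key ω z hω hzc⟩

theorem exists_so (hG : Good Q) {n : ℕ} (hn : Fintype.card ι = 2 * n + 1) (y : Sim Q) :
    ∃ y' : Sim Q, S hG y' = S hG y ∧ y'.1 ∈ isometryGroup F ⇑Q ∧ dt y' = 1 := by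
  have h1 := det_sq hG y
  rw [hn] at h1
  let b : Fˣ := dt y * (mu hG y ^ n)⁻¹
  have hb : b * b = mu hG y := by
    have e1 : b * b = dt y ^ 2 * (mu hG y ^ n)⁻¹ * (mu hG y ^ n)⁻¹ := by
      show dt y * (mu hG y ^ n)⁻¹ * (dt y * (mu hG y ^ n)⁻¹) = _
      rw [pow_two, mul_assoc (dt y * dt y), mul_mul_mul_comm]
    rw [e1, h1, pow_succ, two_mul, pow_add]
    group
  refine ⟨scS Q b⁻¹ * y, S_scS_mul hG _ _, ?_, ?_⟩
  · apply mem_iso_of_mu hG
    rw [map_mul, mu_scS, ← hb]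
    group
  · rw [map_mul, dt_scS, hn, pow_succ, pow_mul, pow_two, ← _root_.mul_inv_rev, hb]
    show (mu hG y)⁻¹ ^ n * (dt y * (mu hG y ^ n)⁻¹)⁻¹ * dt y = 1
    rw [_root_.mul_inv_rev, inv_inv, inv_pow]
    group

theorem cycOut_orth_odd {p : ℕ} [hp : Fact p.Prime] (h2 : (2 : F) ≠ 0) (hG : Good Q) {n : ℕ}
    (hn : Fintype.card ι = 2 * n + 1) (hd : 5 ≤ Fintype.card ι) (hsurj : Function.Surjective (Phi hG))
    (hcore : Core p Q) : CycOut p (POmega F ⇑Q) := by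
  have hfin : Finite (RingAut F) := Finite.of_injective (fun f : RingAut F => (f : F → F)) DFunLike.coe_injective
  have hcyc : IsCyclic (RingAut F) := Cfsg.Agent.LieRecognition.FieldSemilinear.isCyclic_ringAut F
  refine cycOut_of (Phi hG) hsurj (fun g c => sg hG g = c) (fun g => ⟨_, rfl⟩) ?_ ?_ ?_
  · rintro g h _ _ rfl rfl
    exact map_mul _ g h
  · rintro g _ rfl
    exact map_inv _ g
  · intro g hg P
    obtain ⟨y, rfl⟩ := Cfsg.Agent.H63.AO.exists_sim hG hg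
    obtain ⟨y', h1, h3, h4⟩ := exists_so hG hn y
    obtain ⟨s, hs⟩ := so_inner h2 hG hd hcore h3 h4 P
    refine ⟨s, fun x hx => ?_⟩
    rw [← hs x hx, h1]
    rfl

/-- **`cyc_omegaOdd`** -/
theorem cyc_omegaOdd {p : ℕ} [hp : Fact p.Prime] {S : Type u} [Group S] [Finite S] {r : ℕ} [Fact r.Prime] (hrp : r ≠ p)
    (h5 : 5 ≤ p) (h : IsPOmegaOddChar r S) : CycOut p S := by
  obtain ⟨F, iF, iFt, iC, m, hm, ho, ⟨e⟩⟩ := h
  apply cycOut_congr e
  have h2 : (2 : F) ≠ 0 := Cfsg.Agent.LieClassical.PomegaCard.odd_card_iff.1 ho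
  have hG : Good (LieClassical.OrthForms.oddForm m F) := Cfsg.Agent.ClassicalGeometry.OrthSemiForms.good_odd (by omega) h2
  rw [← LieClassical.OrthForms.coe_oddForm]
  exact cycOut_orth_odd h2 hG (n := m) (by simp; omega) (by simp; omega)
    (Phi_surjective hG (AutOrth.Final.surjective_odd hm h2))
    (H813.SpC.coreAll hp.out (by omega) h2 (cast_ne hrp) hG.nondeg)

end Cfsg.Agent.H832.Cyc
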