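import Cfsg.Agent.H107.AutU.Mod

/-!
# S4791, S4927 : symplectic similitudes centralizing a `p`-group (helper832)

* `exists_norm` : norms for an involution of a finite field;
* `exists_mult_irr` : an irreducible `p`-group of isometries of a symplectic space (`p` odd) is centralized by similitudes
  with any given multiplier;
* `exists_sim` : the same without irreducibility, `p` invertible.
-/

set_option autoImplicit false

namespace Cfsg.Agent.H832.Cyc

open Module Cfsg.Agent.H107.AutU

universe u v w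

/-! ### norms -/

theorem exists_norm {F E : Type*} [Field F] [Field E] [Finite F] [Finite E] [Algebra F E]
    (σ : E ≃ₐ[F] E) (hσ : ∀ x, σ (σ x) = x) (h1 : σ ≠ 1) (l : F) : ∃ e : E, e * σ e = algebraMap F E l := by
  classical
  have : FiniteDimensional F E := Module.Finite.of_finite
  set H : Subgroup (E ≃ₐ[F] E) := Subgroup.zpowers σ with hH
  have hord : orderOf σ = 2 := by
    refine orderOf_eq_prime ?_ h1
    ext x
    rw [pow_two]
    exact hσ x
  have hcard : Nat.card H = 2 := by rw [hH, Nat.card_zpowers, hord]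
  set K := IntermediateField.fixedField H with hK
  have hfr : finrank K E = 2 := by rw [hK, IntermediateField.finrank_fixedField_eq_card, hcard]
  obtain ⟨e, he⟩ := FiniteField.norm_surjective K E (algebraMap F K l)
  refine ⟨e, ?_⟩
  have : FiniteDimensional K E := Module.Finite.of_finite
  have : IsGalois K E := inferInstance
  let σ' : E ≃ₐ[K] E :=
    { σ with
      commutes' := fun x => x.2 ⟨σ, Subgroup.mem_zpowers σ⟩ }
  have hσ' : ∀ x, σ' x = σ x := fun _ => rfl
  have h2 : Fintype.card (E ≃ₐ[K] E) = 2 := by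
    rw [← Nat.card_eq_fintype_card, IsGalois.card_aut_eq_finrank, hfr]
  have hne : (1 : E ≃ₐ[K] E) ≠ σ' := by
    intro h
    apply h1
    ext x
    have := congrArg (fun f : E ≃ₐ[K] E => f x) h
    exact this.symm
  have h3 : (Finset.univ : Finset (E ≃ₐ[K] E)) = {1, σ'} := by
    symm
    apply Finset.eq_univ_of_card
    rw [Finset.card_pair hne, h2]
  have h4 := Algebra.norm_eq_prod_automorphisms K e
  rw [h3, Finset.prod_pair hne, he] at h4
  exact h4.symm

/-! ### irreducible groups -/

section irr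

variable {F : Type u} [Field F] {W : Type v} [AddCommGroup W] [Module F W] {P : Type w} [Group P]

theorem exists_mult_irr {p : ℕ} (hp : p.Prime) (hp2 : p ≠ 2) [Finite F] [Finite W] [Nontrivial W] [Finite P]
    (hP : IsPGroup p P) {ρ : P →* (W ≃ₗ[F] W)} (hirr : Irr ρ) (b : LinearMap.BilinForm F W) (halt : ∀ x, b x x = 0)
    (hn : ∀ x, (∀ y, b x y = 0) → x = 0) (hb : ∀ g x y, b (ρ g x) (ρ g y) = b x y) (l : F) :
    ∃ c : Module.End F W, Com ρ c ∧ ∀ x y, b (c x) (c y) = l * b x y := by
  classical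
  have : Fact p.Prime := ⟨hp⟩
  have : FiniteDimensional F W := Module.Finite.of_finite
  have hs : ∀ x y, b x y = - b y x := by
    intro x y
    have h1 := halt (x + y)
    rw [map_add, map_add, LinearMap.add_apply, LinearMap.add_apply, halt, halt, zero_add, add_zero] at h1
    exact eq_neg_of_add_eq_zero_right h1
  obtain ⟨E, iE1, iE2, iE3, iE4, iE5, hE, hc⟩ := exists_field hirr
  -- the action is not trivial
  have hnt : ∃ g : P, ρ g ≠ 1 := by
    by_contra hcon
    push Not at hcon
    obtain ⟨w, hw⟩ := exists_ne (0 : W)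
    rcases hirr (Submodule.span F {w}) (fun g u hu => by rw [hcon g]; exact hu) with h | h
    · exact hw (Submodule.span_singleton_eq_bot.1 h)
    · apply hw
      apply hn
      intro y
      have hy : y ∈ Submodule.span F {w} := by rw [h]; trivial
      obtain ⟨c, rfl⟩ := Submodule.mem_span_singleton.1 hy
      rw [map_smul, halt, smul_zero]
  obtain ⟨g0, hg0⟩ := hnt
  have hsmul : ∀ c : E, (∀ x : W, c • x = 0) → c = 0 := by
    intro c h
    by_contra hc0
    obtain ⟨x, hx⟩ := exists_ne (0 : W)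
    exact hx ((smul_eq_zero.1 (h x)).resolve_left hc0)
  have hbc : ∀ c d : E, (∀ x y, b (c • x) y = b (d • x) y) → c = d := by
    intro c d h
    refine sub_eq_zero.1 (hsmul _ fun x => hn _ fun y => ?_)
    rw [sub_smul, map_sub, LinearMap.sub_apply, h, sub_self]
  -- the adjoint
  have hB : b.Nondegenerate := by
    refine ⟨fun x hx => hn x hx, fun x hx => hn x fun y => by rw [hs, hx y, neg_zero]⟩
  have hex : ∀ c : E, ∃ d : E, ∀ x y, b (d • x) y = b x (c • y) := by
    intro c
    have h1 : ∀ x y, b (b.leftAdjointOfNondegenerate hB (Algebra.lsmul F F W c) x) y = b x (c • y) :=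
      fun x y => LinearMap.BilinForm.isAdjointPairLeftAdjointOfNondegenerate b hB (Algebra.lsmul F F W c) x y
    obtain ⟨d, hd⟩ := hc (b.leftAdjointOfNondegenerate hB (Algebra.lsmul F F W c)) (by
      intro g x
      refine sub_eq_zero.1 (hn _ fun y => ?_)
      obtain ⟨y', rfl⟩ := (ρ g).surjective y
      rw [map_sub, LinearMap.sub_apply, h1, hb g, h1, hE, hb g, sub_self])
    exact ⟨d, fun x y => by rw [← hd, h1]⟩
  choose s hs' using hex
  have hss : ∀ c, s (s c) = c := by
    intro c
    refine hbc _ _ fun x y => ?_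
    rw [hs', hs, hs', hs, neg_neg]
  let σ : E ≃ₐ[F] E :=
    { toFun := s
      invFun := s
      left_inv := hss
      right_inv := hss
      map_mul' := by
        intro c d
        refine hbc _ _ fun x y => ?_
        rw [hs', mul_comm (s c), mul_smul, mul_smul, hs', hs']
      map_add' := by
        intro c d
        refine hbc _ _ fun x y => ?_
        rw [hs', add_smul, add_smul, map_add, map_add, LinearMap.add_apply, hs', hs']
      commutes' := by
        intro r
        refine hbc _ _ fun x y => ?_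
        rw [hs', algebraMap_smul, algebraMap_smul, map_smul, map_smul, LinearMap.smul_apply] }
  have hσ : ∀ c x y, b (σ c • x) y = b x (c • y) := hs'
  -- a central element
  let R := ρ.range
  have hRf : Finite R := Finite.of_surjective ρ.rangeRestrict ρ.rangeRestrict_surjective
  have hRp : IsPGroup p R := hP.of_surjective ρ.rangeRestrict ρ.rangeRestrict_surjective
  have hRn : Nontrivial R := ⟨⟨ρ g0, g0, rfl⟩, 1, fun h => hg0 (congrArg Subtype.val h)⟩
  have hcn := hRp.center_nontrivial
  obtain ⟨z, hz⟩ := exists_ne (1 : Subgroup.center R)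
  have hzc : Com ρ (((z : R) : W ≃ₗ[F] W) : W →ₗ[F] W) := by
    intro g w
    have h1 := Subgroup.mem_center_iff.1 z.2 ⟨ρ g, g, rfl⟩
    have h2 := congrArg (fun r : R => (r : W ≃ₗ[F] W) w) h1
    exact h2.symm
  obtain ⟨ζ, hζ⟩ := hc _ hzc
  have hzb : ∀ x y, b (((z : R) : W ≃ₗ[F] W) x) (((z : R) : W ≃ₗ[F] W) y) = b x y := by
    obtain ⟨g, hg⟩ := (z : R).2
    intro x y
    rw [← hg]
    exact hb g x y
  have hζp : ∀ (k : ℕ) (x : W), (((z : R) : W ≃ₗ[F] W) ^ k) x = ζ ^ k • x := by
    intro k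
    induction k with
    | zero => intro x; rw [pow_zero, pow_zero, one_smul]; rfl
    | succ k ih =>
      intro x
      rw [pow_succ, LinearEquiv.mul_apply, ih, pow_succ, mul_smul]
      exact congrArg _ (hζ x)
  have hζ2 : ζ ^ 2 ≠ 1 := by
    intro h
    have h3 : ((z : R) : W ≃ₗ[F] W) ^ 2 = 1 := by
      ext x
      rw [hζp, h, one_smul]; rfl
    have h4 : (z : R) ^ 2 = 1 := Subtype.ext h3
    obtain ⟨k, hk⟩ := hRp (z : R)
    have h5 : orderOf (z : R) ∣ p ^ k := orderOf_dvd_of_pow_eq_one hk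
    have h6 : orderOf (z : R) ∣ 2 := orderOf_dvd_of_pow_eq_one h4
    have h7 : (p ^ k).Coprime 2 := Nat.Coprime.pow_left _ (Nat.coprime_two_right.2 (hp.odd_of_ne_two hp2))
    have h8 : orderOf (z : R) = 1 := Nat.eq_one_of_dvd_coprimes h7 h5 h6
    exact hz (Subtype.ext (orderOf_eq_one_iff.1 h8))
  have hζσ : ζ * σ ζ = 1 := by
    refine hbc _ _ fun x y => ?_
    rw [one_smul, mul_comm, mul_smul, hσ]
    have h1 := hzb x y
    have e1 : ((z : R) : W ≃ₗ[F] W) x = ζ • x := hζ x
    have e2 : ((z : R) : W ≃ₗ[F] W) y = ζ • y := hζ y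
    rwa [e1, e2] at h1
  have hσ1 : σ ≠ 1 := by
    intro h
    apply hζ2
    have h1 := hζσ
    rw [h] at h1
    rw [pow_two]
    exact h1
  obtain ⟨e, he⟩ := exists_norm σ hss hσ1 l
  refine ⟨(algebraMap E (Module.End E W) e).restrictScalars F, fun g w => hE e g w, fun x y => ?_⟩
  change b (e • x) (e • y) = _
  rw [← hσ, ← mul_smul, mul_comm, he, algebraMap_smul, map_smul, LinearMap.smul_apply, smul_eq_mul]

end irr

/-! ### the general case -/

section gen

variable {F : Type u} [Field F] {V : Type v} [AddCommGroup V] [Module F V] {P : Type w} [Group P]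
  {τ : P →* (V ≃ₗ[F] V)} {B : LinearMap.BilinForm F V} {l : F}

theorem inv_sup {U U' : Submodule F V} (h : Inv τ U) (h' : Inv τ U') : Inv τ (U ⊔ U') := by
  intro g x hx
  obtain ⟨a, ha, b, hb, rfl⟩ := Submodule.mem_sup.1 hx
  rw [map_add]
  exact Submodule.add_mem_sup (h g a ha) (h' g b hb)

theorem mem_orth {U : Submodule F V} {x : V} : x ∈ B.orthogonal U ↔ ∀ u ∈ U, B u x = 0 := Iff.rfl

theorem inv_orth (hb : ∀ g x y, B (τ g x) (τ g y) = B x y) {U : Submodule F V} (h : Inv τ U) :
    Inv τ (B.orthogonal U) := by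
  intro g x hx
  rw [mem_orth] at hx ⊢
  intro u hu
  have h1 := hx (τ g⁻¹ u) (h g⁻¹ u hu)
  rw [← hb g, apply_inv_apply] at h1
  exact h1

theorem neg_symm (halt : ∀ x, B x x = 0) (x y : V) : B x y = - B y x := by
  have h1 := halt (x + y)
  rw [map_add, map_add, LinearMap.add_apply, LinearMap.add_apply, halt, halt, zero_add, add_zero] at h1
  exact eq_neg_of_add_eq_zero_right h1

theorem swap0 (halt : ∀ x, B x x = 0) {x y : V} (h : B x y = 0) : B y x = 0 := by
  rw [neg_symm halt, h, neg_zero]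

theorem le_orth_comm (halt : ∀ x, B x x = 0) {U U' : Submodule F V} (h : U ≤ B.orthogonal U') :
    U' ≤ B.orthogonal U := fun v hv u hu => swap0 halt (h hu v hv)

/-- `y` on `W`, `0` on `C` -/
noncomputable def zext {W C : Submodule F V} (hc : IsCompl W C) (y : Module.End F W) : Module.End F V :=
  W.subtype ∘ₗ y ∘ₗ W.projectionOnto C hc

theorem zext_left {W C : Submodule F V} (hc : IsCompl W C) (y : Module.End F W) {w : V} (hw : w ∈ W) :
    zext hc y w = y ⟨w, hw⟩ := by
  have h1 : W.projectionOnto C hc w = ⟨w, hw⟩ := Submodule.projectionOnto_apply_of_mem_left hc hw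
  change ((y (W.projectionOnto C hc w) : W) : V) = _
  rw [h1]

theorem zext_right {W C : Submodule F V} (hc : IsCompl W C) (y : Module.End F W) {c : V} (h : c ∈ C) :
    zext hc y c = 0 := by
  change ((y (W.projectionOnto C hc c) : W) : V) = _
  rw [Submodule.projectionOnto_apply_of_mem_right hc h, map_zero]
  rfl

theorem zext_com {W C : Submodule F V} (hc : IsCompl W C) {y : Module.End F W} (hW : Inv τ W) (hC : Inv τ C)
    (hy : Com (res τ W hW) y) : Com τ (zext hc y) := by
  intro g v
  obtain ⟨w, hw, c, hc', rfl⟩ := eq_add hc v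
  rw [map_add, map_add, map_add, map_add, zext_right hc y hc', zext_right hc y (hC g c hc'), map_zero, add_zero, add_zero,
    zext_left hc y hw, zext_left hc y (hW g w hw)]
  exact congrArg Subtype.val (hy g ⟨w, hw⟩)

/-- nondegenerate invariant subspaces with a similitude with multiplier `l` -/
def Sm (B : LinearMap.BilinForm F V) (τ : P →* (V ≃ₗ[F] V)) (l : F) (T : Submodule F V) : Prop :=
  Inv τ T ∧ T ⊓ B.orthogonal T = ⊥ ∧ ∃ c : Module.End F V, Com τ c ∧ (∀ x ∈ T, c x ∈ T) ∧
    (∀ x ∈ B.orthogonal T, c x = 0) ∧ ∀ x ∈ T, ∀ y ∈ T, B (c x) (c y) = l * B x y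

theorem sm_bot : Sm B τ l ⊥ := by
  refine ⟨inv_bot, bot_inf_eq _, 0, fun _ _ => by simp, fun x _ => ?_, fun _ _ => rfl, fun x hx y _ => ?_⟩
  · exact Submodule.zero_mem _
  · rw [Submodule.mem_bot] at hx
    rw [hx]
    simp

theorem Sm.sup (halt : ∀ x, B x x = 0) {T T' : Submodule F V} (h : Sm B τ l T) (h' : Sm B τ l T')
    (hTT : T' ≤ B.orthogonal T) : Sm B τ l (T ⊔ T') := by
  have hTT' : T ≤ B.orthogonal T' := le_orth_comm halt hTT
  obtain ⟨hi, hd, c, hc1, hc2, hc3, hc4⟩ := h
  obtain ⟨hi', hd', c', hc1', hc2', hc3', hc4'⟩ := h'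
  have key : ∀ a ∈ T, ∀ b ∈ T', (c + c') (a + b) = c a + c' b := by
    intro a ha b hb
    rw [LinearMap.add_apply, map_add, map_add, hc3 b (hTT hb), hc3' a (hTT' ha), add_zero, zero_add]
  refine ⟨inv_sup hi hi', ?_, c + c', ?_, ?_, ?_, ?_⟩
  · rw [eq_bot_iff]
    rintro x ⟨hx, hx'⟩
    obtain ⟨a, ha, b, hb, rfl⟩ := Submodule.mem_sup.1 hx
    have h1 : a ∈ T ⊓ B.orthogonal T := by
      refine ⟨ha, fun u hu => ?_⟩
      have h2 := hx' u (Submodule.mem_sup_left hu)
      change B u (a + b) = 0 at h2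
      rw [map_add] at h2
      have h3 : B u b = 0 := hTT hb u hu
      rw [h3, add_zero] at h2
      exact h2
    have h2 : b ∈ T' ⊓ B.orthogonal T' := by
      refine ⟨hb, fun u hu => ?_⟩
      have h2 := hx' u (Submodule.mem_sup_right hu)
      change B u (a + b) = 0 at h2
      rw [map_add] at h2
      have h3 : B u a = 0 := hTT' ha u hu
      rw [h3, zero_add] at h2
      exact h2
    rw [hd, Submodule.mem_bot] at h1
    rw [hd', Submodule.mem_bot] at h2
    rw [h1, h2, add_zero]
    exact Submodule.zero_mem _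
  · intro g v
    rw [LinearMap.add_apply, LinearMap.add_apply, hc1, hc1', map_add]
  · intro x hx
    obtain ⟨a, ha, b, hb, rfl⟩ := Submodule.mem_sup.1 hx
    rw [key a ha b hb]
    exact Submodule.add_mem_sup (hc2 a ha) (hc2' b hb)
  · intro x hx
    rw [LinearMap.add_apply, hc3 x fun u hu => hx u (Submodule.mem_sup_left hu),
      hc3' x fun u hu => hx u (Submodule.mem_sup_right hu), add_zero]
  · intro x hx y hy
    obtain ⟨a, ha, b, hb, rfl⟩ := Submodule.mem_sup.1 hx
    obtain ⟨a', ha', b', hb', rfl⟩ := Submodule.mem_sup.1 hy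
    have o1 : ∀ u ∈ T, ∀ v ∈ T', B u v = 0 := fun u hu v hv => hTT hv u hu
    have o2 : ∀ u ∈ T', ∀ v ∈ T, B u v = 0 := fun u hu v hv => hTT' hv u hu
    rw [key a ha b hb, key a' ha' b' hb']
    simp only [map_add, LinearMap.add_apply]
    rw [hc4 a ha a' ha', hc4' b hb b' hb', o1 _ (hc2 a ha) _ (hc2' b' hb'), o2 _ (hc2' b hb) _ (hc2 a' ha'),
      o1 a ha b' hb', o2 b hb a' ha']
    ring

theorem isCompl_of_pair [FiniteDimensional F V] (halt : ∀ x, B x x = 0) (hn : ∀ x, (∀ y, B x y = 0) → x = 0)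
    {W W' : Submodule F V} (h1 : W ⊓ B.orthogonal W' = ⊥) (h2 : W' ⊓ B.orthogonal W = ⊥) :
    IsCompl W (B.orthogonal W') := by
  have hB : B.Nondegenerate := by
    refine ⟨fun x hx => hn x hx, fun x hx => hn x fun y => by rw [neg_symm halt, hx y, neg_zero]⟩
  have hd1 : Disjoint W (B.orthogonal W') := disjoint_iff.2 h1
  have hd2 : Disjoint W' (B.orthogonal W) := disjoint_iff.2 h2
  have e1 := Submodule.finrank_add_finrank_le_of_disjoint hd1
  have e2 := Submodule.finrank_add_finrank_le_of_disjoint hd2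
  have e3 := LinearMap.BilinForm.finrank_orthogonal hB W
  have e4 := LinearMap.BilinForm.finrank_orthogonal hB W'
  have e5 := Submodule.finrank_le W
  have e6 := Submodule.finrank_le W'
  refine (Submodule.isCompl_iff_disjoint _ _ ?_).2 hd1
  omega

theorem exists_piece [Finite F] [Finite V] {p : ℕ} (hp : p.Prime) (hp2 : p ≠ 2) [Finite P] (hP : IsPGroup p P)
    (hpF : (p : F) ≠ 0) (halt : ∀ x, B x x = 0) (hn : ∀ x, (∀ y, B x y = 0) → x = 0)
    (hb : ∀ g x y, B (τ g x) (τ g y) = B x y) {N : Submodule F V} (hN : Inv τ N) (hN0 : N ≠ ⊥)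
    (hNd : N ⊓ B.orthogonal N = ⊥) : ∃ T ≤ N, T ≠ ⊥ ∧ Sm B τ l T := by
  have : FiniteDimensional F V := Module.Finite.of_finite
  have : Fact p.Prime := ⟨hp⟩
  have hPF : (Nat.card P : F) ≠ 0 := by
    obtain ⟨k, hk⟩ := IsPGroup.iff_card.1 hP
    rw [hk, Nat.cast_pow]
    exact pow_ne_zero _ hpF
  by_cases hcase : ∃ W ≤ N, Mini τ W ∧ W ⊓ B.orthogonal W = ⊥
  · obtain ⟨W, hWN, hW, h1⟩ := hcase
    refine ⟨W, hWN, hW.2.1, hW.1, h1, ?_⟩
    have hc := isCompl_of_pair halt hn h1 h1
    have : Nontrivial W := Submodule.nontrivial_iff_ne_bot.2 hW.2.1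
    obtain ⟨y, hy, hyl⟩ := exists_mult_irr (l := l) hp hp2 hP (irr_res hW) (B.domRestrict₁₂ W W) (fun x => halt x)
      (by
        intro x hx
        have h2 : (x : V) ∈ W ⊓ B.orthogonal W := ⟨x.2, fun u hu => swap0 halt (hx ⟨u, hu⟩)⟩
        rw [h1, Submodule.mem_bot] at h2
        exact Subtype.ext h2) (fun g x y => hb g x y)
    refine ⟨zext hc y, zext_com hc hW.1 (inv_orth hb hW.1) hy, fun x hx => ?_, fun x hx => zext_right hc y hx,
      fun a ha b hb' => ?_⟩
    · rw [zext_left hc y hx]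
      exact (y _).2
    · rw [zext_left hc y ha, zext_left hc y hb']
      exact hyl ⟨a, ha⟩ ⟨b, hb'⟩
  · push Not at hcase
    have hiso : ∀ W ≤ N, Mini τ W → W ≤ B.orthogonal W := by
      intro W hWN hW
      rcases hW.2.2 _ inf_le_left (hW.1.inf (inv_orth hb hW.1)) with h | h
      · exact absurd h (hcase W hWN hW)
      · exact inf_eq_left.1 h
    obtain ⟨W, hWN, hW⟩ := exists_mini hN hN0
    obtain ⟨C, hC1, hC2⟩ := maschke hPF ((inv_orth hb hW.1).inf hN)
    have hCN : C ⊓ N ≠ ⊥ := by
      intro h0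
      have h1 : N ≤ B.orthogonal W := by
        intro x hx
        obtain ⟨a, ha, c, hc, rfl⟩ := eq_add hC2 x
        have h2 : c ∈ C ⊓ N := ⟨hc, by
          have := N.sub_mem hx ha.2
          rwa [add_sub_cancel_left] at this⟩
        rw [h0, Submodule.mem_bot] at h2
        rw [h2, add_zero]
        exact ha.1
      have h2 : W ≤ N ⊓ B.orthogonal N := le_inf hWN (le_orth_comm halt h1)
      rw [hNd] at h2
      exact hW.2.1 (le_bot_iff.1 h2)
    obtain ⟨W', hW'C, hW'⟩ := exists_mini (hC1.inf hN) hCN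
    have hW'N : W' ≤ N := hW'C.trans inf_le_right
    have h2 : W' ⊓ B.orthogonal W = ⊥ := by
      rw [eq_bot_iff, ← hC2.inf_eq_bot]
      intro x hx
      exact ⟨⟨hx.2, hW'N hx.1⟩, (hW'C hx.1).1⟩
    have h1 : W ⊓ B.orthogonal W' = ⊥ := by
      rcases hW.2.2 _ inf_le_left (hW.1.inf (inv_orth hb hW'.1)) with h | h
      · exact h
      · exfalso
        have h3 := le_orth_comm halt (inf_eq_left.1 h)
        rw [inf_eq_left.2 h3] at h2
        exact hW'.2.1 h2
    have hi1 := hiso W hWN hW
    have hi2 := hiso W' hW'N hW'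
    have hc1 := isCompl_of_pair halt hn h1 h2
    have hc2 := isCompl_of_pair halt hn h2 h1
    let c : Module.End F V := zext hc1 (l • LinearMap.id) + zext hc2 LinearMap.id
    have key : ∀ a ∈ W, ∀ b ∈ W', c (a + b) = l • a + b := by
      intro a ha b hb'
      change zext hc1 (l • LinearMap.id) (a + b) + zext hc2 LinearMap.id (a + b) = _
      rw [map_add, map_add, zext_left hc1 _ ha, zext_right hc1 _ (hi2 hb'), zext_right hc2 _ (hi1 ha),
        zext_left hc2 _ hb', add_zero, zero_add]
      rfl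
    refine ⟨W ⊔ W', sup_le hWN hW'N, fun h => hW.2.1 (le_bot_iff.1 (h ▸ le_sup_left)), inv_sup hW.1 hW'.1, ?_, c,
      ?_, ?_, ?_, ?_⟩
    · rw [eq_bot_iff]
      rintro x ⟨hx, hx'⟩
      obtain ⟨a, ha, b, hb', rfl⟩ := Submodule.mem_sup.1 hx
      have h3 : a ∈ W ⊓ B.orthogonal W' := by
        refine ⟨ha, fun u hu => ?_⟩
        have h4 := hx' u (Submodule.mem_sup_right hu)
        change B u (a + b) = 0 at h4
        rw [map_add] at h4
        have h5 : B u b = 0 := hi2 hb' u hu
        rw [h5, add_zero] at h4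
        exact h4
      have h4 : b ∈ W' ⊓ B.orthogonal W := by
        refine ⟨hb', fun u hu => ?_⟩
        have h4 := hx' u (Submodule.mem_sup_left hu)
        change B u (a + b) = 0 at h4
        rw [map_add] at h4
        have h5 : B u a = 0 := hi1 ha u hu
        rw [h5, zero_add] at h4
        exact h4
      rw [h1, Submodule.mem_bot] at h3
      rw [h2, Submodule.mem_bot] at h4
      rw [h3, h4, add_zero]
      exact Submodule.zero_mem _
    · have e1 : Com τ (zext hc1 (l • LinearMap.id)) := by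
        refine zext_com hc1 hW.1 (inv_orth hb hW'.1) fun g w => ?_
        exact (map_smul (res τ W hW.1 g) l w).symm
      have e2 : Com τ (zext hc2 LinearMap.id) := zext_com hc2 hW'.1 (inv_orth hb hW.1) fun g w => rfl
      intro g v
      change zext hc1 _ (τ g v) + zext hc2 _ (τ g v) = τ g (zext hc1 _ v + zext hc2 _ v)
      rw [e1, e2, map_add]
    · intro x hx
      obtain ⟨a, ha, b, hb', rfl⟩ := Submodule.mem_sup.1 hx
      rw [key a ha b hb']
      exact Submodule.add_mem_sup (W.smul_mem l ha) hb'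
    · intro x hx
      change zext hc1 _ x + zext hc2 _ x = 0
      rw [zext_right hc1 _ fun u hu => hx u (Submodule.mem_sup_right hu),
        zext_right hc2 _ fun u hu => hx u (Submodule.mem_sup_left hu), add_zero]
    · intro x hx y hy
      obtain ⟨a, ha, b, hb', rfl⟩ := Submodule.mem_sup.1 hx
      obtain ⟨a', ha', b', hb'', rfl⟩ := Submodule.mem_sup.1 hy
      have o1 : ∀ u ∈ W, ∀ v ∈ W, B u v = 0 := fun u hu v hv => hi1 hv u hu
      have o2 : ∀ u ∈ W', ∀ v ∈ W', B u v = 0 := fun u hu v hv => hi2 hv u hu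
      rw [key a ha b hb', key a' ha' b' hb'']
      simp only [map_add, LinearMap.add_apply, map_smul, LinearMap.smul_apply, smul_eq_mul]
      rw [o1 a ha a' ha', o2 b hb' b' hb'']
      ring

/-- **Similitudes centralizing a `p`-group.** -/
theorem exists_sim [Finite F] [Finite V] {p : ℕ} (hp : p.Prime) (hp2 : p ≠ 2) [Finite P] (hP : IsPGroup p P)
    (hpF : (p : F) ≠ 0) (τ : P →* (V ≃ₗ[F] V)) (B : LinearMap.BilinForm F V) (halt : ∀ x, B x x = 0)
    (hn : ∀ x, (∀ y, B x y = 0) → x = 0) (hb : ∀ g x y, B (τ g x) (τ g y) = B x y) (l : F) :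
    ∃ c : Module.End F V, Com τ c ∧ ∀ x y, B (c x) (c y) = l * B x y := by
  have : FiniteDimensional F V := Module.Finite.of_finite
  have hf : Finite (Submodule F V) := Finite.of_injective (fun U : Submodule F V => (U : Set V)) SetLike.coe_injective
  obtain ⟨T, hT⟩ := (Set.toFinite {T : Submodule F V | Sm B τ l T}).exists_maximal ⟨⊥, sm_bot⟩
  have hTc : IsCompl T (B.orthogonal T) := isCompl_of_pair halt hn hT.prop.2.1 hT.prop.2.1
  have htop : B.orthogonal T = ⊥ := by
    by_contra h0
    obtain ⟨T', hT', hT'0, hS⟩ := exists_piece (l := l) hp hp2 hP hpF halt hn hb (inv_orth hb hT.prop.1) h0 (by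
      rw [eq_bot_iff]
      rintro x ⟨hx, hx'⟩
      rw [Submodule.mem_bot]
      apply hn
      intro y
      obtain ⟨a, ha, c, hc, rfl⟩ := eq_add hTc y
      rw [map_add, swap0 halt (hx a ha), swap0 halt (hx' c hc), add_zero])
    have h1 := hT.prop.sup halt hS hT'
    have h2 : T ⊔ T' ≤ T := hT.le_of_ge h1 le_sup_left
    have h3 : T' ≤ T ⊓ B.orthogonal T := le_inf (le_sup_right.trans h2) hT'
    rw [hT.prop.2.1] at h3
    exact hT'0 (le_bot_iff.1 h3)
  have hTt : T = ⊤ := by
    have := hTc.sup_eq_top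
    rwa [htop, sup_bot_eq] at this
  obtain ⟨-, -, c, hc1, -, -, hc4⟩ := hT.prop
  exact ⟨c, hc1, fun x y => hc4 x (hTt ▸ Submodule.mem_top) y (hTt ▸ Submodule.mem_top)⟩

end gen

end Cfsg.Agent.H832.Cyc
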